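import Cfsg.Agent.H190.EPX.RegU
import Cfsg.Agent.H245.OZ.GThreeRow

/-!
# S5745: the number of elements of order `3` of `G₂(3)` (helper190)

In the octonion model: `U s` (`s ∈ 𝔽₃`) are three regular unipotent elements of order `9`.

* `card_pairs` : for every `s₀` there are at most `27` pairs `(c, s)` with `c U_s = U_{s₀} c`;
* `card_nine` : at least `471744` elements of order `9` in `G₂(3)`;
* `ord3_g23` : **at most `59696` elements of order `3` in `G₂(3)`**.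
-/

set_option autoImplicit false
set_option maxRecDepth 100000

namespace Cfsg.Agent.H190.EPX.RG

open Matrix Cfsg Cfsg.Lie Cfsg.Agent.H161.Oct Cfsg.Agent.H245.OZ Cfsg.Agent.H245.OZ.Oc
open Cfsg.Agent.Nodes.RGDChev (HasRGD)

instance fact3 : Fact (Nat.Prime 3) := ⟨Nat.prime_three⟩

abbrev M8 := Matrix (Fin 8) (Fin 8) (ZMod 3)

/-- the nilpotent parts -/
def N1 (s : ZMod 3) : M8 :=
  !![0, 0, 1, 1, 0, 0, 0, 0;
     0, 0, s, s, 0, 1, 2, 0;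
     0, 0, 0, 0, 2, 0, 0, 0;
     0, 0, 1, 0, 0, 0, 0, 0;
     0, 0, 0, 0, 0, 0, 0, 0;
     0, 0, 0, 0, 0, 0, 2, 0;
     2, 0, 2, 2, 2 * s, 0, 0, 1;
     0, 0, 2, 2, 0, 0, 0, 0]

/-- squares -/
def N2 (s : ZMod 3) : M8 :=
  !![0, 0, 1, 0, 2, 0, 0, 0;
     1, 0, 1 + s, 1, 0, 0, 2, 2;
     0, 0, 0, 0, 0, 0, 0, 0;
     0, 0, 0, 0, 2, 0, 0, 0;
     0, 0, 0, 0, 0, 0, 0, 0;
     1, 0, 1, 1, s, 0, 0, 2;
     0, 0, 0, 1, 1, 0, 0, 0;
     0, 0, 2, 0, 1, 0, 0, 0]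

/-- cubes -/
def N3 : M8 :=
  !![0, 0, 0, 0, 2, 0, 0, 0;
     1, 0, 1, 0, 2, 0, 0, 2;
     0, 0, 0, 0, 0, 0, 0, 0;
     0, 0, 0, 0, 0, 0, 0, 0;
     0, 0, 0, 0, 0, 0, 0, 0;
     0, 0, 0, 2, 2, 0, 0, 0;
     0, 0, 1, 0, 0, 0, 0, 0;
     0, 0, 0, 0, 1, 0, 0, 0]

/-- fourth powers -/
def N4 : M8 :=
  !![0, 0, 0, 0, 0, 0, 0, 0;
     0, 0, 2, 2, 2, 0, 0, 0;
     0, 0, 0, 0, 0, 0, 0, 0;
     0, 0, 0, 0, 0, 0, 0, 0;
     0, 0, 0, 0, 0, 0, 0, 0;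
     0, 0, 2, 0, 0, 0, 0, 0;
     0, 0, 0, 0, 2, 0, 0, 0;
     0, 0, 0, 0, 0, 0, 0, 0]

/-- sixth powers -/
def N6 : M8 :=
  !![0, 0, 0, 0, 0, 0, 0, 0;
     0, 0, 0, 0, 1, 0, 0, 0;
     0, 0, 0, 0, 0, 0, 0, 0;
     0, 0, 0, 0, 0, 0, 0, 0;
     0, 0, 0, 0, 0, 0, 0, 0;
     0, 0, 0, 0, 0, 0, 0, 0;
     0, 0, 0, 0, 0, 0, 0, 0;
     0, 0, 0, 0, 0, 0, 0, 0]

theorem n2 : ∀ s, N1 s * N1 s = N2 s := by decide +kernel
theorem n3 : ∀ s, N2 s * N1 s = N3 := by decide +kernel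
theorem n4 : ∀ s, N2 s * N2 s = N4 := by decide +kernel
theorem n6 : ∀ s, N4 * N2 s = N6 := by decide +kernel

/-- the elements -/
def UM (s : ZMod 3) : M8 := 1 + N1 s
/-- the inverses -/
def VM (s : ZMod 3) : M8 := UM s ^ 8

theorem uv : ∀ s, UM s * VM s = 1 := by decide +kernel
theorem vu : ∀ s, VM s * UM s = 1 := by decide +kernel
theorem u9 : ∀ s, UM s ^ 9 = 1 := by decide +kernel
theorem u3 : ∀ s, UM s ^ 3 ≠ 1 := by decide +kernel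

theorem uz : ∀ (s : ZMod 3) (i j : Fin 8), UM s *ᵥ zornMul (Pi.single i 1) (Pi.single j 1) =
    zornMul (UM s *ᵥ Pi.single i 1) (UM s *ᵥ Pi.single j 1) := by decide +kernel

/-- the three regular unipotent elements -/
def U (s : ZMod 3) : Cfsg.Lie.G2 (ZMod 3) := elt (UM s) (VM s) (uv s) (vu s) (uz s)

theorem mt_U (s : ZMod 3) : Oc.mt (U s) = UM s := rfl

theorem orderOf_U (s : ZMod 3) : orderOf (U s) = 9 :=
  orderOf_eq_prime_pow (p := 3) (n := 1)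
    (fun h => u3 s (by have := congrArg Oc.mt h; rwa [Oc.mt_pow, Oc.mt_one] at this))
    (Oc.mt_inj (by rw [Oc.mt_pow, Oc.mt_one]; exact u9 s))


/-! ### Intertwiners -/

/-- the cyclic vector -/
def e0 : V (ZMod 3) := Pi.single 4 1

section inter

variable {s t : ZMod 3} {c : Cfsg.Lie.G2 (ZMod 3)} (h : c * U s = U t * c)

include h

theorem i1 : Oc.mt c * N1 s = N1 t * Oc.mt c := by
  have h1 : Oc.mt c * UM s = UM t * Oc.mt c := congrArg Oc.mt h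
  rw [UM, UM, mul_add, add_mul, mul_one, one_mul] at h1
  exact add_left_cancel h1

theorem i2 : Oc.mt c * N2 s = N2 t * Oc.mt c := by
  rw [← n2 s, ← n2 t, ← mul_assoc, i1 h, mul_assoc, i1 h, mul_assoc]

theorem i3 : Oc.mt c * N3 = N3 * Oc.mt c := by
  nth_rewrite 1 [← n3 s]
  rw [← n3 t, ← mul_assoc, i2 h, mul_assoc, i1 h, mul_assoc]

theorem i4 : Oc.mt c * N4 = N4 * Oc.mt c := by
  nth_rewrite 1 [← n4 s]
  rw [← n4 t, ← mul_assoc, i2 h, mul_assoc, i2 h, mul_assoc]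

theorem i6 : Oc.mt c * N6 = N6 * Oc.mt c := by
  nth_rewrite 1 [← n6 s]
  rw [← n6 t, ← mul_assoc, i4 h, mul_assoc, i2 h, mul_assoc]

/-- the image of the cyclic vector -/
abbrev im (c : Cfsg.Lie.G2 (ZMod 3)) : V (ZMod 3) := Oc.mt c *ᵥ e0

omit h in
theorem mv_of {A B : M8} (hAB : Oc.mt c * A = B * Oc.mt c) : B *ᵥ im c = Oc.mt c *ᵥ (A *ᵥ e0) := by
  rw [Matrix.mulVec_mulVec, Matrix.mulVec_mulVec, hAB]

theorem im_tr : im c 0 + im c 7 = 0 := by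
  have h1 := Oc.map_tr c e0
  have h2 : tr e0 = 0 := by decide +kernel
  rw [h2] at h1
  exact h1

theorem im_nm : nm (im c) = 0 := by
  have h2 : nm e0 = 0 := by decide +kernel
  rw [Oc.map_nm, h2]

theorem im_b4 : bl (im c) (N4 *ᵥ im c) = 1 := by
  have h2 : bl e0 (N4 *ᵥ e0) = 1 := by decide +kernel
  rw [mv_of (i4 h), Oc.map_bl, h2]

theorem im_b2 : bl (im c) (N2 t *ᵥ im c) = 0 := by
  have h2 : ∀ s, bl e0 (N2 s *ᵥ e0) = 0 := by decide +kernel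
  rw [mv_of (i2 h), Oc.map_bl, h2]

theorem im_t36 : bl (zornMul (im c) (N3 *ᵥ im c)) (N6 *ᵥ im c) = 1 := by
  have h2 : bl (zornMul e0 (N3 *ᵥ e0)) (N6 *ᵥ e0) = 1 := by decide +kernel
  rw [mv_of (i3 h), mv_of (i6 h), ← Oc.map_mul, Oc.map_bl, h2]

theorem im_t24 : bl (zornMul (im c) (N2 t *ᵥ im c)) (N4 *ᵥ im c) = 2 - s := by
  have h2 : ∀ s, bl (zornMul e0 (N2 s *ᵥ e0)) (N4 *ᵥ e0) = 2 - s := by decide +kernel
  rw [mv_of (i2 h), mv_of (i4 h), ← Oc.map_mul, Oc.map_bl, h2]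

end inter

/-! ### The equations -/

theorem row2 (s : ZMod 3) (w : V (ZMod 3)) : N2 s *ᵥ w = ![w 2 + 2 * w 4, w 0 + (1 + s) * w 2 + w 3 + 2 * w 6 + 2 * w 7,
    0, 2 * w 4, 0, w 0 + w 2 + w 3 + s * w 4 + 2 * w 7, w 3 + w 4, 2 * w 2 + w 4] := by
  ext i
  fin_cases i <;> simp [N2, Matrix.mulVec, dotProduct, Fin.sum_univ_eight] <;> ring

theorem row3 (w : V (ZMod 3)) : N3 *ᵥ w = ![2 * w 4, w 0 + w 2 + 2 * w 4 + 2 * w 7,
    0, 0, 0, 2 * w 3 + 2 * w 4, w 2, w 4] := by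
  ext i
  fin_cases i <;> simp [N3, Matrix.mulVec, dotProduct, Fin.sum_univ_eight] <;> ring

theorem row4 (w : V (ZMod 3)) : N4 *ᵥ w = ![0, 2 * w 2 + 2 * w 3 + 2 * w 4, 0, 0, 0, 2 * w 2, 2 * w 4, 0] := by
  ext i
  fin_cases i <;> simp [N4, Matrix.mulVec, dotProduct, Fin.sum_univ_eight] <;> ring

theorem row6 (w : V (ZMod 3)) : N6 *ᵥ w = ![0, w 4, 0, 0, 0, 0, 0, 0] := by
  ext i
  fin_cases i <;> simp [N6, Matrix.mulVec, dotProduct, Fin.sum_univ_eight]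

theorem dec4 : ∀ a : ZMod 3, -(a * (2 * a * a)) = 1 → a = 1 := by decide

theorem w4_of {w : V (ZMod 3)} (h : bl (zornMul w (N3 *ᵥ w)) (N6 *ᵥ w) = 1) : w 4 = 1 := by
  apply dec4
  rw [row3, row6] at h
  rw [← h]
  simp only [bl, mul4]
  simp

theorem w3_of {w : V (ZMod 3)} (h4 : w 4 = 1) (h : bl w (N4 *ᵥ w) = 1) : w 3 = w 2 ^ 2 + w 2 := by
  have h3 : (3 : ZMod 3) = 0 := by decide
  rw [row4] at h
  simp only [bl] at h
  simp [h4] at h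
  linear_combination (-1) * h - (w 3 + w 2 ^ 2 + w 2 + 1) * h3

theorem w1_of {w : V (ZMod 3)} (h4 : w 4 = 1) (h : nm w = 0) : w 1 = w 0 * w 7 - (w 2 * w 5 + w 3 * w 6) := by
  simp only [nm, h4] at h
  linear_combination -h

theorem w6_of {t : ZMod 3} {w : V (ZMod 3)} (h4 : w 4 = 1) (h : bl w (N2 t *ᵥ w) = 0) :
    w 6 = w 0 * (2 * w 2 + 1) + w 7 * (w 2 + 2) - (w 2 * (w 0 + w 2 + w 3 + t + 2 * w 7) + w 3 * (w 3 + 1))
      - (w 0 + (1 + t) * w 2 + w 3 + 2 * w 7) := by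
  have h3 : (3 : ZMod 3) = 0 := by decide
  rw [row2] at h
  simp only [bl] at h
  simp [h4] at h
  linear_combination (-1) * h - (w 6) * h3

theorem eq_of_eqs {t : ZMod 3} {w w' : V (ZMod 3)}
    (h7 : w 0 + w 7 = 0) (hn : nm w = 0) (hb4 : bl w (N4 *ᵥ w) = 1) (hb2 : bl w (N2 t *ᵥ w) = 0)
    (ht : bl (zornMul w (N3 *ᵥ w)) (N6 *ᵥ w) = 1)
    (h7' : w' 0 + w' 7 = 0) (hn' : nm w' = 0) (hb4' : bl w' (N4 *ᵥ w') = 1) (hb2' : bl w' (N2 t *ᵥ w') = 0)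
    (ht' : bl (zornMul w' (N3 *ᵥ w')) (N6 *ᵥ w') = 1)
    (e0 : w 0 = w' 0) (e2 : w 2 = w' 2) (e5 : w 5 = w' 5) : w = w' := by
  have g4 := w4_of ht
  have g4' := w4_of ht'
  have g3 := w3_of g4 hb4
  have g3' := w3_of g4' hb4'
  have g7 : w 7 = w' 7 := by linear_combination h7 - h7' - e0
  have g33 : w 3 = w' 3 := by rw [g3, g3', e2]
  have g6 := w6_of g4 hb2
  have g6' := w6_of g4' hb2'
  have g66 : w 6 = w' 6 := by rw [g6, g6', e0, e2, g33, g7]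
  have g1 := w1_of g4 hn
  have g1' := w1_of g4' hn'
  have g11 : w 1 = w' 1 := by rw [g1, g1', e0, e2, g33, g7, e5, g66]
  exact GThree.veq e0 g11 e2 g33 (g4.trans g4'.symm) e5 g66 g7

/-! ### An intertwiner is determined by the image of the cyclic vector -/

/-- a basis -/
def vs (s : ZMod 3) : Fin 8 → V (ZMod 3) :=
  ![o, e0, N1 s *ᵥ e0, N2 s *ᵥ e0, N3 *ᵥ e0, N4 *ᵥ e0, N4 *ᵥ (N1 s *ᵥ e0), N6 *ᵥ e0]

/-- the matrix of the basis -/
def Q (s : ZMod 3) : M8 := Matrix.of fun i j => vs s j i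

/-- the inverse -/
def R (s : ZMod 3) : M8 :=
  !![2, 0, 0, 0, 0, 0, 0, 2;
     0, 0, 0, 0, 1, 0, 0, 0;
     0, 0, 2, 0, 0, 0, 0, 0;
     0, 0, 0, 2, 0, 0, 0, 0;
     1, 0, 0, 1, 0, 0, 0, 2;
     0, 0, s, 2, 0, 0, 2, 0;
     1, 0, 0, 1 + s, 0, 1, 0, 2;
     0, 1, s, 2 + 2 * s, 0, 2, 2, 0]

theorem QR : ∀ s, Q s * R s = 1 := by decide +kernel

theorem fix_of {s : ZMod 3} {d : Cfsg.Lie.G2 (ZMod 3)} {A : M8} (h : Oc.mt d * A = A * Oc.mt d) {v : V (ZMod 3)}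
    (hv : Oc.mt d *ᵥ v = v) : Oc.mt d *ᵥ (A *ᵥ v) = A *ᵥ v := by
  rw [Matrix.mulVec_mulVec, h, ← Matrix.mulVec_mulVec, hv]

theorem one_of {s : ZMod 3} {d : Cfsg.Lie.G2 (ZMod 3)} (h : d * U s = U s * d) (he : Oc.mt d *ᵥ e0 = e0) : d = 1 := by
  have hf : ∀ j, Oc.mt d *ᵥ vs s j = vs s j := by
    intro j
    fin_cases j
    · exact Oc.map_o d
    · exact he
    · exact fix_of (s := s) (i1 h) he
    · exact fix_of (s := s) (i2 h) he
    · exact fix_of (s := s) (i3 h) he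
    · exact fix_of (s := s) (i4 h) he
    · exact fix_of (s := s) (i4 h) (fix_of (s := s) (i1 h) he)
    · exact fix_of (s := s) (i6 h) he
  have hQ : Oc.mt d * Q s = Q s := by
    ext i j
    exact congrFun (hf j) i
  apply Oc.mt_inj
  rw [Oc.mt_one]
  calc Oc.mt d = Oc.mt d * (Q s * R s) := by rw [QR, mul_one]
    _ = 1 := by rw [← mul_assoc, hQ, QR]

/-- **Intertwiners**: a pair `(c, s)` with `c U_s = U_t c` is determined by three coordinates. -/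
theorem inj_pairs {t s s' : ZMod 3} {c c' : Cfsg.Lie.G2 (ZMod 3)} (h : c * U s = U t * c) (h' : c' * U s' = U t * c')
    (e0 : im c 0 = im c' 0) (e2 : im c 2 = im c' 2) (e5 : im c 5 = im c' 5) : s = s' ∧ c = c' := by
  have hw : im c = im c' := eq_of_eqs (im_tr h) (im_nm h) (im_b4 h) (im_b2 h) (im_t36 h)
    (im_tr h') (im_nm h') (im_b4 h') (im_b2 h') (im_t36 h') e0 e2 e5
  have hs : s = s' := by
    have h1 := im_t24 h
    have h2 := im_t24 h'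
    rw [hw, h2] at h1
    linear_combination h1
  subst hs
  refine ⟨rfl, ?_⟩
  have h3 : (c'⁻¹ * c) * U s = U s * (c'⁻¹ * c) := by
    have h4 : U s * c'⁻¹ = c'⁻¹ * U t := by
      rw [eq_inv_mul_iff_mul_eq, ← mul_assoc, h', mul_assoc, mul_inv_cancel, mul_one]
    rw [mul_assoc, h, ← mul_assoc, ← h4, mul_assoc]
  have h5 : Oc.mt (c'⁻¹ * c) *ᵥ RG.e0 = RG.e0 := by
    rw [Oc.mt_mul, ← Matrix.mulVec_mulVec]
    have h6 : Oc.mt c *ᵥ RG.e0 = Oc.mt c' *ᵥ RG.e0 := hw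
    rw [h6, Matrix.mulVec_mulVec, ← Oc.mt_mul, inv_mul_cancel, Oc.mt_one, Matrix.one_mulVec]
  have h7 := one_of h3 h5
  rw [inv_mul_eq_one] at h7
  exact h7.symm

/-- the elements of order nine -/
def ph (p : Cfsg.Lie.G2 (ZMod 3) × ZMod 3) : Cfsg.Lie.G2 (ZMod 3) := p.1 * U p.2 * p.1⁻¹

theorem orderOf_ph (p : Cfsg.Lie.G2 (ZMod 3) × ZMod 3) : orderOf (ph p) = 9 := by
  have h1 : orderOf (ph p) = orderOf (U p.2) := by
    have h2 := MulEquiv.orderOf_eq (MulAut.conj p.1) (U p.2)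
    rw [MulAut.conj_apply] at h2
    exact h2
  rw [h1, orderOf_U]

theorem card_ph : 471744 ≤ (Set.range ph).ncard := by
  classical
  have hfin : Finite (Cfsg.Lie.G2 (ZMod 3)) := finite_g2three
  have := Fintype.ofFinite (Cfsg.Lie.G2 (ZMod 3))
  have h1 : (Finset.univ : Finset (Cfsg.Lie.G2 (ZMod 3) × ZMod 3)).card ≤
      27 * ((Finset.univ : Finset (Cfsg.Lie.G2 (ZMod 3) × ZMod 3)).image ph).card := by
    refine Finset.card_le_mul_card_image _ 27 fun a ha => ?_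
    obtain ⟨⟨g', t⟩, -, rfl⟩ := Finset.mem_image.1 ha
    have h27 : (Finset.univ : Finset (ZMod 3 × ZMod 3 × ZMod 3)).card = 27 := by decide
    rw [← h27]
    have hc : ∀ p ∈ Finset.univ.filter (fun x => ph x = ph (g', t)), (g'⁻¹ * p.1) * U p.2 = U t * (g'⁻¹ * p.1) := by
      intro p hp
      have h2 : p.1 * U p.2 * p.1⁻¹ = g' * U t * g'⁻¹ := (Finset.mem_filter.1 hp).2
      have h3 : p.1 * U p.2 = g' * U t * g'⁻¹ * p.1 := mul_inv_eq_iff_eq_mul.1 h2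
      rw [mul_assoc, h3]
      group
    refine Finset.card_le_card_of_injOn (fun p => (im (g'⁻¹ * p.1) 0, im (g'⁻¹ * p.1) 2, im (g'⁻¹ * p.1) 5))
      (fun _ _ => Finset.mem_coe.2 (Finset.mem_univ _)) ?_
    intro p hp p' hp' hpp
    simp only [Prod.mk.injEq] at hpp
    obtain ⟨h4, h5⟩ := inj_pairs (hc p (Finset.mem_coe.1 hp)) (hc p' (Finset.mem_coe.1 hp')) hpp.1 hpp.2.1 hpp.2.2
    exact Prod.ext (mul_left_cancel h5) h4
  rw [Finset.card_univ, Fintype.card_prod, ← Nat.card_eq_fintype_card, card_g2three, ZMod.card] at h1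
  have h2 : (Set.range ph) = ((Finset.univ : Finset (Cfsg.Lie.G2 (ZMod 3) × ZMod 3)).image ph : Set _) := by
    simp
  rw [h2, Set.ncard_coe_finset]
  omega

theorem ord3_lie (hT : HasRGD 3 (Cfsg.Lie.G2 (ZMod 3))) :
    Nat.card {x : Cfsg.Lie.G2 (ZMod 3) // orderOf x = 3} ≤ 59696 := by
  have hfin : Finite (Cfsg.Lie.G2 (ZMod 3)) := finite_g2three
  refine card_ord3 (k := 6) (m := 5824) (a := 471744) (b := 59696) hT (by rw [card_g2three]; norm_num) (by norm_num)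
    (by norm_num) _ card_ph ?_ (by norm_num)
  rintro _ ⟨p, rfl⟩
  exact orderOf_ph p

end Cfsg.Agent.H190.EPX.RG

namespace Cfsg.Agent.H190.EPX

open Cfsg
open Cfsg.Agent.Nodes.RGDChev (HasRGD)

/-- **the number of elements of order `3` of `G₂(3)`** -/
theorem ord3_g23 {F : Type} [Field F] [Fintype F] (hF : Fintype.card F = 3) (hT : HasRGD 3 ↥(Lie.chevG2.group F)) :
    Nat.card {x : ↥(Lie.chevG2.group F) // orderOf x = 3} ≤ 59696 := by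
  obtain ⟨f2⟩ := H638.G2Iso.equiv (F := ZMod 3)
  have g : F ≃+* ZMod 3 := FiniteField.ringEquivOfCardEq (K := F) (K' := ZMod 3) (by rw [hF, ZMod.card])
  have f : ↥(Lie.chevG2.group F) ≃* Cfsg.Lie.G2 (ZMod 3) :=
    (ChevStructure.FieldMap.groupEquivOfRingEquiv Cfsg.Lie.chevG2 g).trans f2.symm
  refine le_trans (le_of_eq ?_) (RG.ord3_lie (HasRGD.of_equiv f hT))
  exact Nat.card_congr (f.toEquiv.subtypeEquiv fun x => by
    rw [MulEquiv.toEquiv_eq_coe, MulEquiv.coe_toEquiv, MulEquiv.orderOf_eq])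

end Cfsg.Agent.H190.EPX
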